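import Groth.Agent.Weil57.Closed
import Groth.Agent.SGA3a.GrpSep
import Mathlib.CategoryTheory.Monoidal.Cartesian.Grp
import Mathlib.CategoryTheory.Monoidal.Cartesian.Over
import Mathlib.GroupTheory.Commutator.Basic

/-!
The centre of a group scheme over a field.
-/

set_option autoImplicit false
set_option linter.style.haveILetI false
set_option backward.isDefEq.respectTransparency.types false

noncomputable section

universe u

open CategoryTheory MonoidalCategory CartesianMonoidalCategory MonObj GrpObj AlgebraicGeometry Limits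
open scoped commutatorElement

namespace Groth.Agent.Weil57

theorem isFreeOnAffines_field (K : Type u) [Field K] {Y : Scheme.{u}}
    (q : Y ⟶ Spec (CommRingCat.of K)) : IsFreeOnAffines q := fun U => by
  have hF : IsField Γ(Spec (CommRingCat.of K), ⊤) :=
    (Scheme.ΓSpecIso (CommRingCat.of K)).commRingCatIsoToRingEquiv.toMulEquiv.isField (Field.toIsField K)
  letI := hF.toField
  letI := baseAlg q U.1
  exact Module.Free.of_divisionRing Γ(Spec (CommRingCat.of K), ⊤) Γ(Y, U.1)

theorem exists_centre (K : Type u) [Field K] (G : Over (Spec (CommRingCat.of K))) [GrpObj G] :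
    ∃ (Z : Over (Spec (CommRingCat.of K))) (incl : Z ⟶ G), IsClosedImmersion incl.left ∧
      ∀ (T : Over (Spec (CommRingCat.of K))) (g : T ⟶ G), (∃ z : T ⟶ Z, z ≫ incl = g) ↔
        ∀ (T' : Over (Spec (CommRingCat.of K))) (h : T' ⟶ T) (g' : T' ⟶ G),
          (h ≫ g) * g' = g' * (h ≫ g) := by
  haveI : IsSeparated G.hom := SGA3a.isSeparated_of_subsingleton G
  have he : η[G].left ≫ G.hom = 𝟙 _ := Over.w η[G]
  haveI : IsClosedImmersion (η[G].left ≫ G.hom) := by
    rw [he]; infer_instance
  haveI : IsClosedImmersion η[G].left := IsClosedImmersion.of_comp η[G].left G.hom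
  let sqO : Over (Spec (CommRingCat.of K)) := Over.mk (pullback.fst G.hom G.hom ≫ G.hom)
  let pa : sqO ⟶ G := Over.homMk (pullback.fst G.hom G.hom) rfl
  let pb : sqO ⟶ G := Over.homMk (pullback.snd G.hom G.hom) pullback.condition.symm
  let comm : sqO ⟶ G := ⁅pa, pb⁆
  let c := pullback.fst comm.left η[G].left
  haveI : IsClosedImmersion c := MorphismProperty.pullback_fst _ _ inferInstance
  obtain ⟨Z, z, hz, huniv⟩ := exists_weilRestriction G.hom G.hom c (isFreeOnAffines_field K G.hom)
  refine ⟨Over.mk (z ≫ G.hom), Over.homMk z rfl, hz, fun T g => ?_⟩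
  let gm : pullback (g.left ≫ G.hom) G.hom ⟶ pullback G.hom G.hom :=
    pullback.lift (pullback.fst _ _ ≫ g.left) (pullback.snd _ _) (by
      rw [Category.assoc]; exact pullback.condition)
  have hu := huniv g.left gm (pullback.lift_fst _ _ _) (pullback.lift_snd _ _ _)
  have h1 : (∃ u : T ⟶ Over.mk (z ≫ G.hom), u ≫ Over.homMk z rfl = g) ↔ ∃ u, u ≫ z = g.left := by
    constructor
    · rintro ⟨u, rfl⟩; exact ⟨u.left, rfl⟩
    · rintro ⟨u, hu'⟩
      refine ⟨Over.homMk u ?_, Over.OverMorphism.ext hu'⟩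
      show u ≫ z ≫ G.hom = T.hom
      rw [← Category.assoc, hu']; exact Over.w g
  rw [h1, hu]
  let T'' : Over (Spec (CommRingCat.of K)) :=
    Over.mk (pullback.fst (g.left ≫ G.hom) G.hom ≫ g.left ≫ G.hom)
  let h0 : T'' ⟶ T := Over.homMk (pullback.fst (g.left ≫ G.hom) G.hom) (by
    show _ ≫ T.hom = _ ≫ g.left ≫ G.hom
    rw [show T.hom = g.left ≫ G.hom from (Over.w g).symm])
  let g0 : T'' ⟶ G := Over.homMk (pullback.snd (g.left ≫ G.hom) G.hom) pullback.condition.symm
  let gmO : T'' ⟶ sqO := Over.homMk gm (by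
    show gm ≫ pullback.fst _ _ ≫ G.hom = _ ≫ g.left ≫ G.hom
    rw [← Category.assoc, pullback.lift_fst, Category.assoc])
  have ha : gmO ≫ pa = h0 ≫ g := Over.OverMorphism.ext (pullback.lift_fst _ _ _)
  have hb : gmO ≫ pb = g0 := Over.OverMorphism.ext (pullback.lift_snd _ _ _)
  have h2 : (∃ v, v ≫ c = gm) ↔ gmO ≫ comm = 1 := by
    constructor
    · rintro ⟨v, hv⟩
      apply Over.OverMorphism.ext
      show gm ≫ comm.left = T''.hom ≫ η[G].left
      have e : T''.hom = v ≫ pullback.snd comm.left η[G].left := by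
        rw [← Over.w (gmO ≫ comm)]
        show (gm ≫ comm.left) ≫ G.hom = _
        rw [← hv, Category.assoc v, pullback.condition, Category.assoc, Category.assoc, he,
          Category.comp_id]
      rw [← hv, Category.assoc v, pullback.condition, e, Category.assoc]
    · intro h
      exact ⟨pullback.lift gm T''.hom (congrArg CommaMorphism.left h), pullback.lift_fst _ _ _⟩
  have h3 : gmO ≫ comm = 1 ↔ (h0 ≫ g) * g0 = g0 * (h0 ≫ g) := by
    rw [← commutatorElement_eq_one_iff_mul_comm, commutatorElement_def, ← ha, ← hb]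
    simp only [comm, commutatorElement_def, MonObj.comp_mul, GrpObj.comp_inv]
  rw [h2, h3]
  refine ⟨fun H T' h g' => ?_, fun H => H _ h0 g0⟩
  let k : T' ⟶ T'' := Over.homMk (pullback.lift h.left g'.left (by
      rw [show g'.left ≫ G.hom = T'.hom from Over.w g', show g.left ≫ G.hom = T.hom from Over.w g]
      exact Over.w h)) (by
    show pullback.lift _ _ _ ≫ pullback.fst _ _ ≫ g.left ≫ G.hom = T'.hom
    rw [pullback.lift_fst_assoc, show g.left ≫ G.hom = T.hom from Over.w g]
    exact Over.w h)
  have hk1 : k ≫ h0 = h := Over.OverMorphism.ext (pullback.lift_fst _ _ _)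
  have hk2 : k ≫ g0 = g' := Over.OverMorphism.ext (pullback.lift_snd _ _ _)
  have := congrArg (k ≫ ·) H
  simp only [MonObj.comp_mul, ← Category.assoc, hk1, hk2] at this
  exact this

end Groth.Agent.Weil57
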