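import Groth.Agent.Weil57.Coeff
import Mathlib.AlgebraicGeometry.IdealSheaf.Basic
import Mathlib.AlgebraicGeometry.IdealSheaf.Subscheme
import Mathlib.AlgebraicGeometry.Morphisms.ClosedImmersion

/-!
The Weil restriction of a closed subscheme `C ⊆ X ×_S Y` along `Y → S`: the largest closed
subscheme `Z ⊆ X` with `Z ×_S Y ⊆ C`.
-/

set_option autoImplicit false
set_option linter.style.haveILetI false
set_option backward.isDefEq.respectTransparency.types false

noncomputable section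

universe u

open CategoryTheory Limits AlgebraicGeometry TopologicalSpace Opposite

namespace Groth.Agent.Weil57

theorem app_eq_zero_of_local {X T : Scheme.{u}} (h : T ⟶ X) (V : X.Opens) (s : Γ(X, V))
    (H : ∀ z ∈ h ⁻¹ᵁ V, ∃ (T₀ : T.Opens) (e : T₀ ≤ h ⁻¹ᵁ V), z ∈ T₀ ∧ h.appLE V T₀ e s = 0) :
    h.app V s = 0 := by
  choose T₀ e hz hs using H
  refine T.sheaf.eq_of_locally_eq' (fun z : ↥(h ⁻¹ᵁ V) => T₀ z.1 z.2) (h ⁻¹ᵁ V)
    (fun z => homOfLE (e z.1 z.2)) (fun z hzV => Opens.mem_iSup.mpr ⟨⟨z, hzV⟩, hz z hzV⟩) _ _ fun z => ?_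
  show T.presheaf.map (homOfLE (e z.1 z.2)).op (h.app V s) = T.presheaf.map _ 0
  rw [map_zero]
  exact hs z.1 z.2

theorem le_ker_iff {X T : Scheme.{u}} (h : T ⟶ X) (J : X.IdealSheafData) :
    J ≤ h.ker ↔ ∀ (V : X.affineOpens), ∀ x ∈ J.ideal V, h.app V.1 x = 0 := by
  rw [Scheme.Hom.ker, Scheme.IdealSheafData.le_ofIdeals_iff]
  exact forall_congr' fun V => ⟨fun H x hx => H hx, fun H x hx => H x hx⟩

variable {S X Y : Scheme.{u}} [IsAffine S] (p : X ⟶ S) (q : Y ⟶ S) (hq : IsFreeOnAffines q)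
  (J : (pullback p q).IdealSheafData)

/-- `V × U` as an affine open -/
abbrev prodAff (V : X.affineOpens) (U : Y.affineOpens) : (pullback p q).affineOpens :=
  ⟨prodOpen p q V.1 U.1, isAffineOpen_prodOpen p q V U⟩

/-- the ideal of all coefficients -/
def coefIdeal (V : X.affineOpens) : Ideal Γ(X, V.1) :=
  Ideal.span {z | ∃ (U : Y.affineOpens) (x : Γ(pullback p q, prodOpen p q V.1 U.1))
    (_ : x ∈ J.ideal (prodAff p q V U)) (i : Idx q hq U), coef q hq p V U x i = z}

theorem map_coefIdeal (V : X.affineOpens) (f : Γ(X, V.1)) :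
    (coefIdeal p q hq J V).map (X.presheaf.map (homOfLE <| X.basicOpen_le f).op).hom =
      coefIdeal p q hq J (X.affineBasicOpen f) := by
  let V' := X.affineBasicOpen f
  have hle : V'.1 ≤ V.1 := X.basicOpen_le f
  have hprod : ∀ U : Y.affineOpens, prodAff p q V' U ≤ prodAff p q V U := fun U =>
    inf_le_inf_right _ ((pullback.fst p q).preimage_mono hle)
  have hnat : ∀ (U : Y.affineOpens) (x : Γ(pullback p q, prodOpen p q V.1 U.1)) (i : Idx q hq U),
      coef q hq p V' U ((pullback p q).presheaf.map (homOfLE (hprod U)).op x) i =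
        X.presheaf.map (homOfLE hle).op (coef q hq p V U x i) := fun U x i => by
    have h1 := coef_natural q hq p p (𝟙 X) (Category.id_comp _) (𝟙 _) (by simp) (by simp) V U V' hle
      (hprod U) x i
    simp only [Scheme.Hom.appLE, Scheme.Hom.id_app] at h1
    exact h1
  refine le_antisymm ?_ ?_
  · rw [coefIdeal, Ideal.map_span, Ideal.span_le]
    rintro _ ⟨_, ⟨U, x, hx, i, rfl⟩, rfl⟩
    exact Ideal.subset_span ⟨U, _, Scheme.IdealSheafData.ideal_le_comap_ideal J (hprod U) hx, i, hnat U x i⟩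
  · refine Ideal.span_le.2 ?_
    rintro _ ⟨U, x, hx, i, rfl⟩
    let a := (coefIdeal p q hq J V).map (X.presheaf.map (homOfLE <| X.basicOpen_le f).op).hom
    show coef q hq p V' U x i ∈ a
    rw [← Scheme.IdealSheafData.map_ideal J (hprod U), Ideal.map] at hx
    induction hx using Submodule.span_induction generalizing i with
    | mem y hy =>
      obtain ⟨y, hy, rfl⟩ := hy
      show coef q hq p V' U ((pullback p q).presheaf.map (homOfLE (hprod U)).op y) i ∈ a
      rw [hnat]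
      exact Ideal.mem_map_of_mem _ (Ideal.subset_span ⟨U, y, hy, i, rfl⟩)
    | zero => rw [coef_zero]; exact zero_mem a
    | add y z _ _ hy hz => rw [coef_add]; exact add_mem (hy i) (hz i)
    | smul c y _ hy => exact coef_mul_mem q hq p V' U a c y hy i

/-- the ideal sheaf of the Weil restriction -/
def weilIdeal : X.IdealSheafData where
  ideal := coefIdeal p q hq J
  map_ideal_basicOpen := map_coefIdeal p q hq J

variable {T : Scheme.{u}} (p' : T ⟶ S) (t : T ⟶ X) (ht : t ≫ p = p')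
  (g : pullback p' q ⟶ pullback p q) (hg1 : g ≫ pullback.fst p q = pullback.fst p' q ≫ t)
  (hg2 : g ≫ pullback.snd p q = pullback.snd p' q)

include ht hg1 hg2 in
theorem weilIdeal_le_ker_iff : weilIdeal p q hq J ≤ t.ker ↔ J ≤ g.ker := by
  rw [le_ker_iff, le_ker_iff]
  have hpre : ∀ (V : X.Opens) (U : Y.Opens) (T₀ : T.Opens), T₀ ≤ t ⁻¹ᵁ V →
      prodOpen p' q T₀ U ≤ g ⁻¹ᵁ prodOpen p q V U := fun V U T₀ e z hz => by
    refine ⟨?_, ?_⟩
    · show pullback.fst p q (g z) ∈ V
      rw [← Scheme.Hom.comp_apply, hg1]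
      exact e hz.1
    · show pullback.snd p q (g z) ∈ U
      rw [← Scheme.Hom.comp_apply, hg2]
      exact hz.2
  constructor
  · intro H W x hx
    refine app_eq_zero_of_local g W.1 x fun z hz => ?_
    obtain ⟨V, hV, hzV, -⟩ := exists_isAffineOpen_mem_and_subset (X := X)
      (x := pullback.fst p q (g z)) (U := ⊤) trivial
    obtain ⟨U, hU, hzU, -⟩ := exists_isAffineOpen_mem_and_subset (X := Y)
      (x := pullback.snd p q (g z)) (U := ⊤) trivial
    have hzt : pullback.fst p' q z ∈ t ⁻¹ᵁ V := by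
      show t (pullback.fst p' q z) ∈ V
      rw [← Scheme.Hom.comp_apply, ← hg1]
      exact hzV
    obtain ⟨T₀, hT₀, hzT, hTV⟩ := exists_isAffineOpen_mem_and_subset hzt
    have hzW : z ∈ prodOpen p' q T₀ U := ⟨hzT, by
      show pullback.snd p' q z ∈ U
      rw [← hg2]; exact hzU⟩
    obtain ⟨a, b, hab, hza⟩ := exists_basicOpen_le_affine_inter W.2
      (isAffineOpen_prodOpen p q ⟨V, hV⟩ ⟨U, hU⟩) (g z) ⟨hz, hzV, hzU⟩
    let D := (pullback p q).affineBasicOpen (U := W) a
    have hD1 : D ≤ W := (pullback p q).basicOpen_le a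
    have hD2 : D ≤ prodAff p q ⟨V, hV⟩ ⟨U, hU⟩ := hab.trans_le ((pullback p q).basicOpen_le b)
    refine ⟨prodOpen p' q T₀ U ⊓ g ⁻¹ᵁ D.1, inf_le_right.trans (g.preimage_mono hD1), ⟨hzW, hza⟩, ?_⟩
    have hxD := Scheme.IdealSheafData.ideal_le_comap_ideal J hD1 hx
    rw [Ideal.mem_comap, ← Scheme.IdealSheafData.map_ideal J hD2] at hxD
    have key : ∀ y ∈ (J.ideal (prodAff p q ⟨V, hV⟩ ⟨U, hU⟩)).map
        ((pullback p q).presheaf.map (homOfLE hD2).op).hom,
        g.appLE D.1 (prodOpen p' q T₀ U ⊓ g ⁻¹ᵁ D.1) inf_le_right y = 0 := by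
      intro y hy
      rw [Ideal.map] at hy
      induction hy using Submodule.span_induction with
      | mem y hy =>
        obtain ⟨y, hy, rfl⟩ := hy
        show ((pullback p q).presheaf.map (homOfLE hD2).op ≫ g.appLE D.1 _ inf_le_right) y = 0
        erw [Scheme.Hom.map_appLE]
        rw [← Scheme.Hom.appLE_map g (hpre V U T₀ hTV) (homOfLE inf_le_left).op,
          ConcreteCategory.comp_apply]
        rw [eq_zero_of_coef q hq p' ⟨T₀, hT₀⟩ ⟨U, hU⟩
          (g.appLE (prodOpen p q V U) (prodOpen p' q T₀ U) (hpre V U T₀ hTV) y) (fun i => ?_), map_zero]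
        rw [coef_natural q hq p p' t ht g hg1 hg2 ⟨V, hV⟩ ⟨U, hU⟩ ⟨T₀, hT₀⟩ hTV (hpre V U T₀ hTV) y i]
        show (t.app V ≫ T.presheaf.map _) (coef q hq p ⟨V, hV⟩ ⟨U, hU⟩ y i) = 0
        rw [ConcreteCategory.comp_apply, H ⟨V, hV⟩ _ (Ideal.subset_span ⟨⟨U, hU⟩, y, hy, i, rfl⟩), map_zero]
      | zero => exact map_zero _
      | add y w _ _ h1 h2 => exact (map_add _ y w).trans ((congrArg₂ (· + ·) h1 h2).trans (add_zero 0))
      | smul c y _ h1 => exact (map_mul _ c y).trans ((congrArg _ h1).trans (mul_zero _))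
    have h0 := key _ hxD
    rw [← ConcreteCategory.comp_apply, Scheme.Hom.map_appLE] at h0
    exact h0
  · intro H V z hz
    change z ∈ coefIdeal p q hq J V at hz
    rw [coefIdeal] at hz
    induction hz using Submodule.span_induction with
    | mem y hy =>
      obtain ⟨U, x, hx, i, rfl⟩ := hy
      refine app_eq_zero_of_local t V.1 _ fun w hw => ?_
      obtain ⟨T₀, hT₀, hwT, hTV⟩ := exists_isAffineOpen_mem_and_subset hw
      refine ⟨T₀, hTV, hwT, ?_⟩
      rw [← coef_natural q hq p p' t ht g hg1 hg2 V U ⟨T₀, hT₀⟩ hTV (hpre V.1 U.1 T₀ hTV) x i]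
      have h1 : g.appLE (prodOpen p q V.1 U.1) (prodOpen p' q T₀ U.1) (hpre V.1 U.1 T₀ hTV) x = 0 := by
        rw [Scheme.Hom.appLE, ConcreteCategory.comp_apply, H (prodAff p q V U) x hx, map_zero]
      rw [h1, coef_zero]
      rfl
    | zero => exact map_zero _
    | add y w _ _ h1 h2 => rw [map_add, h1, h2, add_zero]
    | smul c y _ h1 => rw [smul_eq_mul, map_mul, h1, mul_zero]

omit g hg1 hg2

/-- the Weil restriction of the closed subscheme `c` -/
theorem exists_weilRestriction {C : Scheme.{u}} (c : C ⟶ pullback p q) [IsClosedImmersion c]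
    (hq : IsFreeOnAffines q) :
    ∃ (Z : Scheme.{u}) (z : Z ⟶ X), IsClosedImmersion z ∧
      ∀ {T : Scheme.{u}} (t : T ⟶ X) (g : pullback (t ≫ p) q ⟶ pullback p q),
        g ≫ pullback.fst p q = pullback.fst (t ≫ p) q ≫ t →
        g ≫ pullback.snd p q = pullback.snd (t ≫ p) q →
        ((∃ u : T ⟶ Z, u ≫ z = t) ↔ ∃ v, v ≫ c = g) := by
  let I := weilIdeal p q hq c.ker
  refine ⟨I.subscheme, I.subschemeι, inferInstance, fun t g hg1 hg2 => ?_⟩
  constructor
  · rintro ⟨v, hv⟩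
    have h1 : I ≤ t.ker := by
      rw [← hv]
      conv_lhs => rw [← I.ker_subschemeι]
      exact Scheme.Hom.le_ker_comp v I.subschemeι
    have h2 := (weilIdeal_le_ker_iff p q hq c.ker (t ≫ p) t rfl g hg1 hg2).1 h1
    exact ⟨IsClosedImmersion.lift c g h2, IsClosedImmersion.lift_fac _ _ _⟩
  · rintro ⟨v, hv⟩
    have h1 : c.ker ≤ g.ker := by rw [← hv]; exact Scheme.Hom.le_ker_comp v c
    have h2 := (weilIdeal_le_ker_iff p q hq c.ker (t ≫ p) t rfl g hg1 hg2).2 h1
    have h3 : I.subschemeι.ker ≤ t.ker := by rwa [I.ker_subschemeι]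
    exact ⟨IsClosedImmersion.lift I.subschemeι t h3, IsClosedImmersion.lift_fac _ _ _⟩

end Groth.Agent.Weil57
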