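import Mathlib.AlgebraicGeometry.Morphisms.Affine
import Mathlib.Algebra.Category.Ring.Constructions
import Mathlib.RingTheory.TensorProduct.Free
import Mathlib.LinearAlgebra.FreeModule.Basic

/-!
Coefficients of functions on `V ×_S U` for `Γ(U)` free over an affine base.
-/

set_option autoImplicit false
set_option linter.style.haveILetI false
set_option backward.isDefEq.respectTransparency.types false

noncomputable section

universe u

open CategoryTheory Limits AlgebraicGeometry TopologicalSpace Opposite TensorProduct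

namespace Groth.Agent.Weil57

variable {S X Y : Scheme.{u}} [IsAffine S]

/-- the functions on an open as an algebra over the functions on the base -/
@[reducible] def baseAlg (p : X ⟶ S) (V : X.Opens) : Algebra Γ(S, ⊤) Γ(X, V) :=
  (p.appLE ⊤ V le_top).hom.toAlgebra

/-- the sections over affine opens are free over the base -/
def IsFreeOnAffines (q : Y ⟶ S) : Prop :=
  ∀ U : Y.affineOpens, letI := baseAlg q U.1; Module.Free Γ(S, ⊤) Γ(Y, U.1)

/-- `V × U` -/
abbrev prodOpen (p : X ⟶ S) (q : Y ⟶ S) (V : X.Opens) (U : Y.Opens) : (pullback p q).Opens :=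
  pullback.fst p q ⁻¹ᵁ V ⊓ pullback.snd p q ⁻¹ᵁ U

theorem isAffineOpen_prodOpen (p : X ⟶ S) (q : Y ⟶ S) (V : X.affineOpens) (U : Y.affineOpens) :
    IsAffineOpen (prodOpen p q V.1 U.1) := by
  have : IsAffine (V.1 : Scheme.{u}) := V.2
  have : IsAffine (U.1 : Scheme.{u}) := U.2
  have : IsAffine ((⊤ : S.Opens) : Scheme.{u}) := isAffineOpen_top S
  exact IsAffine.of_isPullback (Scheme.Hom.isPullback_resLE (IsPullback.of_hasPullback p q)
    (US := ⊤) (UT := U.1) (UX := V.1) le_top le_top (UY := prodOpen p q V.1 U.1) rfl)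

variable (q : Y ⟶ S)

theorem exists_prodRingEquiv (p : X ⟶ S) (V : X.affineOpens) (U : Y.affineOpens) :
    letI := baseAlg p V.1
    letI := baseAlg q U.1
    ∃ E : Γ(pullback p q, prodOpen p q V.1 U.1) ≃+* Γ(X, V.1) ⊗[Γ(S, ⊤)] Γ(Y, U.1),
      (∀ a, E ((pullback.fst p q).appLE V.1 (prodOpen p q V.1 U.1) inf_le_left a) = a ⊗ₜ 1) ∧
      ∀ b, E ((pullback.snd p q).appLE U.1 (prodOpen p q V.1 U.1) inf_le_right b) = 1 ⊗ₜ b := by
  letI := baseAlg p V.1
  letI := baseAlg q U.1
  have : IsAffine (V.1 : Scheme.{u}) := V.2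
  have : IsAffine (U.1 : Scheme.{u}) := U.2
  have : IsAffine ((⊤ : S.Opens) : Scheme.{u}) := isAffineOpen_top S
  have hpb := Scheme.Hom.isPullback_resLE (IsPullback.of_hasPullback p q)
    (US := ⊤) (UT := U.1) (UX := V.1) le_top le_top (UY := prodOpen p q V.1 U.1) rfl
  have hpo : IsPushout (p.appLE ⊤ V.1 le_top) (q.appLE ⊤ U.1 le_top)
      ((pullback.fst p q).appLE V.1 (prodOpen p q V.1 U.1) inf_le_left)
      ((pullback.snd p q).appLE U.1 (prodOpen p q V.1 U.1) inf_le_right) := by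
    refine (isPushout_appTop_of_isPullback hpb).of_iso (⊤ : S.Opens).topIso V.1.topIso U.1.topIso
      (prodOpen p q V.1 U.1).topIso ?_ ?_ ?_ ?_ <;>
    · simp only [Scheme.Hom.appTop, Scheme.Hom.resLE_app_top, Category.assoc, Iso.inv_hom_id,
        Category.comp_id]
  have hpo' := CommRingCat.isPushout_tensorProduct Γ(S, ⊤) Γ(X, V.1) Γ(Y, U.1)
  exact ⟨(hpo.isoIsPushout _ _ hpo').commRingCatIsoToRingEquiv,
    fun a => congr($(hpo.inl_isoIsPushout_hom _ _ hpo') a),
    fun b => congr($(hpo.inr_isoIsPushout_hom _ _ hpo') b)⟩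

variable (hq : IsFreeOnAffines q)

/-- index set of a basis of `Γ(U)` -/
def Idx (U : Y.affineOpens) : Type u :=
  letI := baseAlg q U.1
  haveI := hq U
  Module.Free.ChooseBasisIndex Γ(S, ⊤) Γ(Y, U.1)

/-- the coefficients of a function on `V × U` -/
def coef (p : X ⟶ S) (V : X.affineOpens) (U : Y.affineOpens)
    (x : Γ(pullback p q, prodOpen p q V.1 U.1)) : Idx q hq U →₀ Γ(X, V.1) :=
  letI := baseAlg p V.1
  letI := baseAlg q U.1
  haveI := hq U
  (Algebra.TensorProduct.basis Γ(X, V.1) (Module.Free.chooseBasis Γ(S, ⊤) Γ(Y, U.1))).repr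
    ((exists_prodRingEquiv q p V U).choose x)

theorem coef_add (p : X ⟶ S) (V : X.affineOpens) (U : Y.affineOpens)
    (x y : Γ(pullback p q, prodOpen p q V.1 U.1)) :
    coef q hq p V U (x + y) = coef q hq p V U x + coef q hq p V U y := by
  simp only [coef, map_add]
  rfl

theorem coef_zero (p : X ⟶ S) (V : X.affineOpens) (U : Y.affineOpens) :
    coef q hq p V U 0 = 0 := by
  simp only [coef, map_zero]
  rfl

theorem eq_zero_of_coef (p : X ⟶ S) (V : X.affineOpens) (U : Y.affineOpens)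
    (x : Γ(pullback p q, prodOpen p q V.1 U.1)) (h : ∀ i, coef q hq p V U x i = 0) : x = 0 := by
  letI := baseAlg p V.1
  letI := baseAlg q U.1
  haveI := hq U
  apply (exists_prodRingEquiv q p V U).choose.injective
  rw [map_zero]
  apply (Algebra.TensorProduct.basis Γ(X, V.1) (Module.Free.chooseBasis Γ(S, ⊤) Γ(Y, U.1))).repr.injective
  rw [map_zero]
  exact Finsupp.ext h

theorem coef_mul_mem (p : X ⟶ S) (V : X.affineOpens) (U : Y.affineOpens) (a : Ideal Γ(X, V.1))
    (c x : Γ(pullback p q, prodOpen p q V.1 U.1)) (h : ∀ i, coef q hq p V U x i ∈ a) :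
    ∀ i, coef q hq p V U (c * x) i ∈ a := by
  intro i
  letI := baseAlg p V.1
  letI := baseAlg q U.1
  haveI := hq U
  let E := (exists_prodRingEquiv q p V U).choose
  let b := Algebra.TensorProduct.basis Γ(X, V.1) (Module.Free.chooseBasis Γ(S, ⊤) Γ(Y, U.1))
  show b.repr (E (c * x)) i ∈ a
  rw [map_mul, ← b.linearCombination_repr (E x), Finsupp.linearCombination_apply, Finsupp.mul_sum,
    map_finsuppSum, Finsupp.sum_apply]
  refine Submodule.sum_mem _ fun j _ => ?_
  dsimp only
  rw [Algebra.mul_smul_comm, map_smul, Finsupp.smul_apply, smul_eq_mul]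
  exact Ideal.mul_mem_right _ _ (h j)

/-- coefficients are natural in `V` -/
theorem coef_natural {T : Scheme.{u}} (p : X ⟶ S) (p' : T ⟶ S) (t : T ⟶ X) (ht : t ≫ p = p')
    (g : pullback p' q ⟶ pullback p q) (hg1 : g ≫ pullback.fst p q = pullback.fst p' q ≫ t)
    (hg2 : g ≫ pullback.snd p q = pullback.snd p' q)
    (V : X.affineOpens) (U : Y.affineOpens) (T₀ : T.affineOpens) (e : T₀.1 ≤ t ⁻¹ᵁ V.1)
    (e' : prodOpen p' q T₀.1 U.1 ≤ g ⁻¹ᵁ prodOpen p q V.1 U.1)
    (x : Γ(pullback p q, prodOpen p q V.1 U.1)) (i : Idx q hq U) :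
    coef q hq p' T₀ U (g.appLE (prodOpen p q V.1 U.1) (prodOpen p' q T₀.1 U.1) e' x) i =
      t.appLE V.1 T₀.1 e (coef q hq p V U x i) := by
  letI := baseAlg p V.1
  letI := baseAlg p' T₀.1
  letI := baseAlg q U.1
  haveI := hq U
  let E := (exists_prodRingEquiv q p V U).choose
  let E' := (exists_prodRingEquiv q p' T₀ U).choose
  obtain ⟨hE1, hE2⟩ := (exists_prodRingEquiv q p V U).choose_spec
  obtain ⟨hE1', hE2'⟩ := (exists_prodRingEquiv q p' T₀ U).choose_spec
  let b := Module.Free.chooseBasis Γ(S, ⊤) Γ(Y, U.1)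
  obtain ⟨z, rfl⟩ := E.symm.surjective x
  show (Algebra.TensorProduct.basis Γ(T, T₀.1) b).repr (E' (g.appLE _ _ e' (E.symm z))) i =
    t.appLE V.1 T₀.1 e ((Algebra.TensorProduct.basis Γ(X, V.1) b).repr (E (E.symm z)) i)
  rw [E.apply_symm_apply]
  induction z using TensorProduct.induction_on with
  | zero => simp only [map_zero]; exact (map_zero _).symm
  | add z w hz hw => simp only [map_add, Finsupp.add_apply, hz, hw]
  | tmul a c =>
    have e1 : E.symm (a ⊗ₜ c) = (pullback.fst p q).appLE V.1 (prodOpen p q V.1 U.1) inf_le_left a *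
        (pullback.snd p q).appLE U.1 (prodOpen p q V.1 U.1) inf_le_right c := by
      rw [E.symm_apply_eq, map_mul, hE1, hE2]; simp
    have e2 : g.appLE _ (prodOpen p' q T₀.1 U.1) e' ((pullback.fst p q).appLE V.1 (prodOpen p q V.1 U.1) inf_le_left a) =
        (pullback.fst p' q).appLE T₀.1 (prodOpen p' q T₀.1 U.1) inf_le_left (t.appLE V.1 T₀.1 e a) := by
      simp only [← ConcreteCategory.comp_apply, Scheme.Hom.appLE_comp_appLE, hg1]
    have e3 : g.appLE _ (prodOpen p' q T₀.1 U.1) e' ((pullback.snd p q).appLE U.1 (prodOpen p q V.1 U.1) inf_le_right c) =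
        (pullback.snd p' q).appLE U.1 (prodOpen p' q T₀.1 U.1) inf_le_right c := by
      simp only [← ConcreteCategory.comp_apply, Scheme.Hom.appLE_comp_appLE, hg2]
    rw [e1, map_mul, e2, e3, map_mul E', hE1', hE2', Algebra.TensorProduct.tmul_mul_tmul, mul_one,
      one_mul, Algebra.TensorProduct.basis_repr_tmul, Algebra.TensorProduct.basis_repr_tmul,
      Finsupp.smul_apply, Finsupp.smul_apply, Finsupp.mapRange_apply, Finsupp.mapRange_apply,
      smul_eq_mul, smul_eq_mul, map_mul]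
    congr 1
    show p'.appLE ⊤ T₀.1 le_top _ = (p.appLE ⊤ V.1 le_top ≫ t.appLE V.1 T₀.1 e) _
    rw [Scheme.Hom.appLE_comp_appLE]
    simp only [ht]

end Groth.Agent.Weil57
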